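import Cfsg.Agent.Lib.JankoFour.Data.HexData

/-!
Data about the normaliser of the hexad kernel in the automorphism group of the Mathieu group on 22
points (checked in `Cfsg.Agent.Lib.JankoFour.HexOrbProof`).
-/

set_option autoImplicit false

namespace Cfsg.Agent.JankoFour.Data

/-- Generators of the hexad kernel. -/
def hexGens : List ℕ := [0x170710080d0f1115120e13090a0b0c141604050603020100,
    0x17060d1210141113080e150a090c0b0f0416050703020100,
    0x171209060a16110c070e0b100d1315040f14050803020100,
    0x170a0810121311140d0e0f06071604150b0c050903020100]

/-- Generators of the pair kernel. -/
def elemGens : List ℕ := [0x1710070a060c1116090e041208140f0b1513050d03020100,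
    0x170d0609070b11040a0e1608120f140c1315051003020100,
    0x1716060f070c0e1014110d1208090a0b1315030405020100,
    0x1716130a150b051009030d0812140f0c060711040e020100,
    0x161309150c11100a0e0d12080f140b0607050403010217]

/-- An element of order five normalising the hexad kernel. -/
def fiveNorm : ℕ := 0x1707130c1214050a06031615080409100f0d0e0b02110100

/-- An element of order three normalising both kernels. -/
def threeBoth : ℕ := 0x170d0a0c0f07051008110406150b121309140e1603020100

/-- A group of order nine normalising the hexad kernel. -/
def nineList : List ℕ := [0x17161514131211100f0e0d0c0b0a09080706050403020100,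
    0x17040b0608090e10130516140a15070f120c110d03020100,
    0x170d0a0c0f07051008110406150b121309140e1603020100,
    0x17140a0713040e100f050c09150b0d081612110601030200,
    0x17061512080d0510131114070b0a160f04090e0c01030200,
    0x170c0b090f161110080e06120a1504130d07051401030200,
    0x1709150d0f140e10080512040b0a06130c16110702010300,
    0x17120a04080c1110130e0716150b140f060d050902010300,
    0x17070b16130605100f11090d0a150c0814040e1202010300]

/-- Elements carrying the standard pair to the fifteen pairs in the hexad, with inverses. -/
def duadMovers : List (ℕ × ℕ) := [(0x17161514131211100f0e0d0c0b0a09080706050403020100, 0x17161514131211100f0e0d0c0b0a09080706050403020100),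
    (0x1704100f09080e0b1611130d0a150c061207051402030100, 0x170f0a040d070e1514110c09100b13120608051602030100),
    (0x170702090e120a0f150c0406160b0d141103100813050100, 0x170b0f08031207051013090e0a111404160c020d06150100),
    (0x170c1506121113070f080d0305100b020a040914160e0100, 0x170315041113120a0f020d160907050e10140b060c080100),
    (0x17120207050915130b140d0c040a16060e03100f08110100, 0x1709110e1016020504070d0c0f0a12031408130b06150100),
    (0x170e1007141609010d0811130a0b0f120c06040515020300, 0x171203130c080d1509160f070a0b110e1406040501021000),
    (0x170e090d070a1501141203040608130b0c160f1110020500, 0x1706110f090e0403051614070812150a130b010c0d021000),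
    (0x17040d1609030a0f0b100c11011514051206071308020e00, 0x17140a0904070c0e1001150d0f1113030506081612020b00),
    (0x1716040d12030b0815100605010a0c0e0714090f13021100, 0x17160f060313010e04081409110a0510070d0c1512020b00),
    (0x170e120f0c0a10021308010714090615040d16110b030500, 0x1705080b0f1504111416061303120a0e0c09010702100d00),
    (0x171213021009040f0516140b0a01110c150d060807030e00, 0x170e070d15160913100106080c0b120403050f1102140a00),
    (0x17070f02101216080e0d0c150b0105060a04141309031100, 0x17110c0504120113150f0e0d0b0703101608090602140a00),
    (0x170701040216151214080b0d0f09100a110306130c050e00, 0x1712110f041007090b010c030d080a0e1605021406131500),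
    (0x17010d1507080c02130b03120904160a0610140e0f051100, 0x170914050f0c0106030415110e080b121307020a0d101600),
    (0x1701160b120f1402080a0309070d04150c10060513110e00, 0x171508110313020612010a07140e0c0f0b0504090d101600)]

/-- An element and its inverse, carrying the base involution to one that moves the base points. -/
def baseMover : ℕ × ℕ :=
  (0x17100a090e0302140506110c160d0b0f0412070813150100, 0x170b021003060d1608130a0c09151404050e0f0712110100)

/-- The moved involution. -/
def baseMoved : ℕ := 0x170d150a13080e040911160b0c140f120706031005020100

end Cfsg.Agent.JankoFour.Data
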